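import Mathlib
import Cfsg.Agent.Lib.ProductSet

/-!
# THEOREM FULL (helper251 #19410), abstract part

`P ≥ S`, `V` a natural `SL₂(q)`-module for `P`, `Z = C_V(S)` of order `q`, `Q = C_S(V)`, `W ≥ V` elementary abelian
such that the conjugates of `W` under `P` commute; `A ≤ S` abelian, not in `Q`, with
`|C_A(F)| |F| ≤ |A| |C_F(A)|` for the elementary abelian `S`-invariant `F ≤ Q`. Then for every `n ∈ W` with
`[n, S] ≤ Z` and every `g ∈ P` with `Z ^ g ≠ Z` the group `A` centralises `n ^ g` modulo `Z`.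
-/

set_option autoImplicit false
set_option linter.unusedSectionVars false

namespace Cfsg.Agent.Omega.NO3S.FullJ

open Subgroup

universe u

variable {G : Type u} [Group G]

/-! ### Two homomorphisms -/

/-- `x ↦ [x, n]` on `X`, if the values commute with `X` -/
theorem exists_hom_left {X V : Subgroup G} {n : G} (hV : ∀ x ∈ X, ∀ v ∈ V, x * v = v * x)
    (hVV : ∀ v ∈ V, ∀ w ∈ V, v * w = w * v) (hn : ∀ x ∈ X, x * n * x⁻¹ * n⁻¹ ∈ V) :
    ∃ f : X →* G, ∀ x : X, f x = (x : G) * n * (x : G)⁻¹ * n⁻¹ := by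
  refine ⟨MonoidHom.mk' (fun x => (x : G) * n * (x : G)⁻¹ * n⁻¹) ?_, fun x => rfl⟩
  rintro ⟨x, hx⟩ ⟨y, hy⟩
  simp only [Subgroup.coe_mul]
  have h1 := hV x hx _ (hn y hy)
  have h2 := hVV _ (hn y hy) _ (hn x hx)
  calc x * y * n * (x * y)⁻¹ * n⁻¹ = x * (y * n * y⁻¹ * n⁻¹) * n * x⁻¹ * n⁻¹ := by group
    _ = (y * n * y⁻¹ * n⁻¹) * x * n * x⁻¹ * n⁻¹ := by rw [h1]
    _ = (y * n * y⁻¹ * n⁻¹) * (x * n * x⁻¹ * n⁻¹) := by group
    _ = (x * n * x⁻¹ * n⁻¹) * (y * n * y⁻¹ * n⁻¹) := h2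

/-- `f ↦ [b, f]` on an abelian subgroup normalised by `b` -/
theorem exists_hom_right {F : Subgroup G} {b : G} (hF : ∀ x ∈ F, ∀ y ∈ F, x * y = y * x)
    (hb : ∀ x ∈ F, b * x * b⁻¹ ∈ F) {E : Subgroup G} (hE : E ≤ F) :
    ∃ f : E →* G, ∀ x : E, f x = b * (x : G) * b⁻¹ * (x : G)⁻¹ := by
  refine ⟨MonoidHom.mk' (fun x => b * (x : G) * b⁻¹ * (x : G)⁻¹) ?_, fun x => rfl⟩
  rintro ⟨x, hx⟩ ⟨y, hy⟩
  simp only [Subgroup.coe_mul]
  have h1 : (b * y * b⁻¹ * y⁻¹) * x⁻¹ = x⁻¹ * (b * y * b⁻¹ * y⁻¹) :=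
    hF _ (mul_mem (hb y (hE hy)) (inv_mem (hE hy))) _ (inv_mem (hE hx))
  calc b * (x * y) * b⁻¹ * (x * y)⁻¹ = b * x * b⁻¹ * ((b * y * b⁻¹ * y⁻¹) * x⁻¹) := by group
    _ = b * x * b⁻¹ * (x⁻¹ * (b * y * b⁻¹ * y⁻¹)) := by rw [h1]
    _ = (b * x * b⁻¹ * x⁻¹) * (b * y * b⁻¹ * y⁻¹) := by group

theorem card_eq_mul {X : Subgroup G} (f : X →* G) :
    Nat.card X = Nat.card f.ker * Nat.card f.range := by
  rw [← Subgroup.index_ker, Subgroup.card_mul_index]

theorem card_ker_le [Finite G] {X Y : Subgroup G} (f : X →* G) (h : ∀ x : X, f x = 1 → (x : G) ∈ Y) :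
    Nat.card f.ker ≤ Nat.card Y := by
  have h1 : f.ker.map X.subtype ≤ Y := by
    rintro _ ⟨x, hx, rfl⟩
    exact h x hx
  calc Nat.card f.ker = Nat.card (f.ker.map X.subtype) :=
        (Subgroup.card_map_of_injective X.subtype_injective).symm
    _ ≤ Nat.card Y := Subgroup.card_le_of_le h1

theorem le_card_ker [Finite G] {X Y : Subgroup G} (f : X →* G) (hY : Y ≤ X)
    (h : ∀ x : X, (x : G) ∈ Y → f x = 1) : Nat.card Y ≤ Nat.card f.ker := by
  have h1 : Y ≤ f.ker.map X.subtype := by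
    intro y hy
    exact ⟨⟨y, hY hy⟩, h ⟨y, hY hy⟩ hy, rfl⟩
  calc Nat.card Y ≤ Nat.card (f.ker.map X.subtype) := Subgroup.card_le_of_le h1
    _ = Nat.card f.ker := Subgroup.card_map_of_injective X.subtype_injective

theorem card_range_le [Finite G] {X t : Subgroup G} (f : X →* G) (h : ∀ x : X, f x ∈ t) :
    Nat.card f.range ≤ Nat.card t := by
  apply Subgroup.card_le_of_le
  rintro _ ⟨x, rfl⟩
  exact h x

theorem two_mul_card_le [Finite G] {Y Z : Subgroup G} (h : Z ≤ Y) {v : G} (hv : v ∈ Y) (hvZ : v ∉ Z) :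
    2 * Nat.card Z ≤ Nat.card Y := by
  obtain ⟨k, hk⟩ := Subgroup.card_dvd_of_le h
  have h0 : 0 < Nat.card Y := Nat.card_pos
  rw [hk, mul_comm]
  apply Nat.mul_le_mul_left
  by_contra hk2
  have hk1 : k = 1 := by
    rcases Nat.eq_zero_or_pos k with h1 | h1
    · rw [h1, mul_zero] at hk; omega
    · omega
  rw [hk1, mul_one] at hk
  have := Subgroup.eq_of_le_of_card_ge h hk.le
  exact hvZ (this ▸ hv)

theorem comm_of_sq {V : Subgroup G} (hV : ∀ x ∈ V, x * x = 1) {x y : G} (hx : x ∈ V) (hy : y ∈ V) :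
    x * y = y * x := by
  have h1 := hV _ (mul_mem hx hy)
  have hx1 := hV x hx
  have hy1 := hV y hy
  calc x * y = x * (x * y * (x * y)) * y := by rw [h1, mul_one]
    _ = (x * x) * (y * x) * (y * y) := by group
    _ = y * x := by rw [hx1, hy1, one_mul, mul_one]

/-! ### The count -/

/-- the hypotheses of the count ((5), (6) of #19410) -/
structure Cnt (A B V F : Subgroup G) (N : Set G) (q : ℕ) : Prop where
  abA : ∀ a ∈ A, ∀ b ∈ A, a * b = b * a
  BA : B ≤ A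
  abF : ∀ x ∈ F, ∀ y ∈ F, x * y = y * x
  VF : V ≤ F
  AF : ∀ a ∈ A, ∀ x ∈ F, a * x * a⁻¹ ∈ F
  BV : ∀ b ∈ B, ∀ v ∈ V, b * v = v * b
  NF : ∀ n ∈ N, n ∈ F
  gen : F ≤ V ⊔ closure N
  small : ∀ n ∈ N, ∃ t : Subgroup G, Nat.card t ≤ q ∧ t ≤ V ∧ (∀ b ∈ B, b * n * b⁻¹ * n⁻¹ ∈ t) ∧
    ∀ v ∈ t, v ≠ 1 → ∀ Y : Subgroup G, (∀ a ∈ A, a * v * a⁻¹ ∈ Y) → 2 * q ≤ Nat.card Y

theorem Cnt.count [Finite G] {A B V F : Subgroup G} {N : Set G} {q : ℕ} (h : Cnt A B V F N q) (m : ℕ) :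
    ∀ X ≤ B, Nat.card X ≤ m → (∀ x ∈ X, ∀ f ∈ F, x * f = f * x) ∨
      2 * (Nat.card X * Nat.card (F ⊓ centralizer (X : Set G) : Subgroup G)) ≤
        Nat.card F * Nat.card (X ⊓ centralizer (F : Set G) : Subgroup G) := by
  induction m with
  | zero =>
    intro X _ hX
    have : 0 < Nat.card X := Nat.card_pos
    omega
  | succ m ih =>
    intro X hXB hX
    by_cases hc : ∀ n ∈ N, ∀ x ∈ X, x * n = n * x
    · left
      intro x hx f hf
      have h1 : V ⊔ closure N ≤ centralizer ({x} : Set G) := by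
        rw [sup_le_iff, closure_le]
        constructor
        · intro v hv
          rw [mem_centralizer_singleton_iff]
          exact (h.BV x (hXB hx) v hv).symm
        · intro n hn
          rw [SetLike.mem_coe, mem_centralizer_singleton_iff]
          exact (hc n hn x hx).symm
      exact (mem_centralizer_singleton_iff.1 (h1 (h.gen hf))).symm
    · right
      push Not at hc
      obtain ⟨n, hn, b, hb, hbn⟩ := hc
      obtain ⟨t, htq, htV, hbt, hY⟩ := h.small n hn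
      have hVV : ∀ v ∈ V, ∀ w ∈ V, v * w = w * v := fun v hv w hw => h.abF v (h.VF hv) w (h.VF hw)
      set X₁ : Subgroup G := X ⊓ centralizer ({n} : Set G) with hX₁
      -- `|X : X₁| ≤ q`
      have c1 : Nat.card X ≤ Nat.card X₁ * q := by
        obtain ⟨f, hf⟩ := exists_hom_left (X := X) (V := V) (n := n) (fun x hx v hv => h.BV x (hXB hx) v hv) hVV
          (fun x hx => htV (hbt x (hXB hx)))
        rw [card_eq_mul f]
        refine Nat.mul_le_mul ?_ ((card_range_le f fun x => ?_).trans htq)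
        · apply card_ker_le f
          intro x hx
          rw [hf] at hx
          refine mem_inf.2 ⟨x.2, mem_centralizer_singleton_iff.2 ?_⟩
          have := mul_inv_eq_one.1 hx
          exact (mul_inv_eq_iff_eq_mul.1 this)
        · rw [hf]; exact hbt _ (hXB x.2)
      -- `|C_F(X₁) : C_F(X)| ≥ 2 q`
      have c2 : Nat.card (F ⊓ centralizer (X : Set G) : Subgroup G) * (2 * q) ≤
          Nat.card (F ⊓ centralizer (X₁ : Set G) : Subgroup G) := by
        obtain ⟨f, hf⟩ := exists_hom_right (F := F) (b := b) h.abF (fun x hx => h.AF b (h.BA (hXB hb)) x hx)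
          (E := F ⊓ centralizer (X₁ : Set G)) inf_le_left
        rw [card_eq_mul f]
        refine Nat.mul_le_mul ?_ ?_
        · apply le_card_ker f
          · refine le_inf inf_le_left (inf_le_right.trans (centralizer_le ?_))
            exact inf_le_left
          · intro x hx
            rw [hf]
            have := mem_centralizer_iff.1 hx.2 b hb
            rw [this]; group
        · refine hY (b * n * b⁻¹ * n⁻¹) (hbt b (hXB hb)) ?_ _ ?_
          · intro e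
            exact hbn (mul_inv_eq_iff_eq_mul.1 (mul_inv_eq_one.1 e))
          · intro a ha
            have hab := h.abA a ha b (h.BA (hXB hb))
            have hmem : a * n * a⁻¹ ∈ F ⊓ centralizer (X₁ : Set G) := by
              refine mem_inf.2 ⟨h.AF a ha n (h.NF n hn), mem_centralizer_iff.2 ?_⟩
              intro x hx
              have hxn : x * n = n * x := (mem_centralizer_singleton_iff.1 hx.2)
              have hax := h.abA a ha x (h.BA (hXB hx.1))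
              have e1 : x * a = a * x := hax.symm
              have e2 : a⁻¹ * x = x * a⁻¹ := by
                rw [inv_mul_eq_iff_eq_mul, ← mul_assoc, e1.symm, mul_assoc, mul_inv_cancel, mul_one]
              calc x * (a * n * a⁻¹) = (x * a) * n * a⁻¹ := by group
                _ = a * (x * n) * a⁻¹ := by rw [e1]; group
                _ = a * n * (x * a⁻¹) := by rw [hxn]; group
                _ = a * n * a⁻¹ * x := by rw [← e2]; group
            refine ⟨⟨a * n * a⁻¹, hmem⟩, ?_⟩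
            rw [hf]
            have e2 : a⁻¹ * b = b * a⁻¹ := by
              rw [inv_mul_eq_iff_eq_mul, ← mul_assoc, hab, mul_assoc, mul_inv_cancel, mul_one]
            have e3 : a⁻¹ * b⁻¹ = b⁻¹ * a⁻¹ := by
              rw [← mul_inv_rev, ← mul_inv_rev, hab]
            calc b * (a * n * a⁻¹) * b⁻¹ * (a * n * a⁻¹)⁻¹ = (b * a) * n * (a⁻¹ * b⁻¹) * a * n⁻¹ * a⁻¹ := by group
              _ = (a * b) * n * (b⁻¹ * a⁻¹) * a * n⁻¹ * a⁻¹ := by rw [hab, e3]
              _ = a * (b * n * b⁻¹ * n⁻¹) * a⁻¹ := by group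
      -- `C_X(F) = C_{X₁}(F)`
      have c3 : X ⊓ centralizer (F : Set G) = X₁ ⊓ centralizer (F : Set G) := by
        apply le_antisymm
        · rintro x ⟨hx, hxF⟩
          refine ⟨⟨hx, ?_⟩, hxF⟩
          exact mem_centralizer_singleton_iff.2 ((mem_centralizer_iff.1 hxF n (h.NF n hn)).symm)
        · exact inf_le_inf_right _ inf_le_left
      have hlt : Nat.card X₁ < Nat.card X := by
        refine lt_of_le_of_ne (Subgroup.card_le_of_le inf_le_left) fun e => ?_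
        have := Subgroup.eq_of_le_of_card_ge (H := X₁) (K := X) inf_le_left e.ge
        apply hbn
        exact mem_centralizer_singleton_iff.1 ((this ▸ hb : b ∈ X₁)).2
      have key : Nat.card X₁ * Nat.card (F ⊓ centralizer (X₁ : Set G) : Subgroup G) ≤
          Nat.card F * Nat.card (X₁ ⊓ centralizer (F : Set G) : Subgroup G) := by
        rcases ih X₁ (inf_le_left.trans hXB) (by omega) with h1 | h1
        · have e1 : F ⊓ centralizer (X₁ : Set G) = F := by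
            refine inf_eq_left.2 fun f hf => mem_centralizer_iff.2 fun x hx => h1 x hx f hf
          have e2 : X₁ ⊓ centralizer (F : Set G) = X₁ := by
            refine inf_eq_left.2 fun x hx => mem_centralizer_iff.2 fun f hf => (h1 x hx f hf).symm
          rw [e1, e2, mul_comm]
        · omega
      rw [c3]
      calc 2 * (Nat.card X * Nat.card (F ⊓ centralizer (X : Set G) : Subgroup G))
          ≤ 2 * ((Nat.card X₁ * q) * Nat.card (F ⊓ centralizer (X : Set G) : Subgroup G)) := by gcongr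
        _ = Nat.card X₁ * (Nat.card (F ⊓ centralizer (X : Set G) : Subgroup G) * (2 * q)) := by ring
        _ ≤ Nat.card X₁ * Nat.card (F ⊓ centralizer (X₁ : Set G) : Subgroup G) := by gcongr
        _ ≤ _ := key

/-! ### The theorem -/

structure Hyp (S P Q V Z A W : Subgroup G) (q : ℕ) : Prop where
  SP : S ≤ P
  QS : Q ≤ S
  nQ : ∀ g ∈ P, ∀ x ∈ Q, g * x * g⁻¹ ∈ Q
  nV : ∀ g ∈ P, ∀ v ∈ V, g * v * g⁻¹ ∈ V
  VW : V ≤ W
  WQ : W ≤ Q
  ZV : Z ≤ V
  QV : ∀ x ∈ Q, ∀ v ∈ V, x * v = v * x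
  SZ : ∀ s ∈ S, ∀ z ∈ Z, s * z = z * s
  SV : ∀ s ∈ S, ∀ v ∈ V, s * v * s⁻¹ * v⁻¹ ∈ Z
  fix : ∀ s ∈ S, s ∉ Q → ∀ v ∈ V, s * v = v * s → v ∈ Z
  ti : ∀ g ∈ P, ∀ v ∈ Z, v ≠ 1 → g * v * g⁻¹ ∈ Z → ∀ z ∈ Z, g * z * g⁻¹ ∈ Z
  q2 : 2 ≤ q
  cZ : Nat.card Z = q
  cV : Nat.card V = q * q
  cS : Nat.card S ≤ q * Nat.card Q
  sq : ∀ w ∈ W, w * w = 1
  comm : ∀ g ∈ P, ∀ w ∈ W, ∀ w' ∈ W, g * w * g⁻¹ * w' = w' * (g * w * g⁻¹)
  AS : A ≤ S
  AQ : ¬ A ≤ Q
  abA : ∀ a ∈ A, ∀ b ∈ A, a * b = b * a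
  hA : ∀ F : Subgroup G, V ≤ F → F ≤ Q → (∀ x ∈ F, x * x = 1) → (∀ s ∈ S, ∀ x ∈ F, s * x * s⁻¹ ∈ F) →
    Nat.card (A ⊓ centralizer (F : Set G) : Subgroup G) * Nat.card F ≤
      Nat.card A * Nat.card (F ⊓ centralizer (A : Set G) : Subgroup G)

namespace Hyp

variable {S P Q V Z A W : Subgroup G} {q : ℕ} (h : Hyp S P Q V Z A W q)

include h

/-- `C_A(V) = A ∩ Q` -/
theorem cent_V [Finite G] : A ⊓ centralizer (V : Set G) = A ⊓ Q := by
  apply le_antisymm
  · rintro a ⟨ha, hc⟩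
    refine ⟨ha, ?_⟩
    by_contra haQ
    have h1 : V ≤ Z := fun v hv => h.fix a (h.AS ha) haQ v hv (mem_centralizer_iff.1 hc v hv).symm
    have h2 := Subgroup.card_le_of_le h1
    rw [h.cZ, h.cV] at h2
    have := h.q2
    nlinarith
  · rintro a ⟨ha, haQ⟩
    exact ⟨ha, mem_centralizer_iff.2 fun v hv => (h.QV a haQ v hv).symm⟩

theorem inf_cent_le [Finite G] : V ⊓ centralizer (A : Set G) ≤ Z := by
  rintro v ⟨hv, hc⟩
  obtain ⟨a, ha, haQ⟩ := SetLike.not_le_iff_exists.1 h.AQ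
  exact h.fix a (h.AS ha) haQ v hv (mem_centralizer_iff.1 hc a ha)

theorem card_AQ [Finite G] : Nat.card A = q * Nat.card (A ⊓ Q : Subgroup G) := by
  have hsq : ∀ x ∈ V, x * x = 1 := fun x hx => h.sq x (h.VW hx)
  have h1 := h.hA V le_rfl (h.VW.trans h.WQ) hsq fun s hs x hx => h.nV s (h.SP hs) x hx
  rw [h.cent_V, h.cV] at h1
  have h2 : Nat.card (V ⊓ centralizer (A : Set G) : Subgroup G) ≤ q :=
    h.cZ ▸ Subgroup.card_le_of_le h.inf_cent_le
  have hq : 0 < q := by have := h.q2; omega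
  apply le_antisymm
  · -- `|A : A ∩ Q| ≤ |S : Q| ≤ q`
    have h3 : Q.relIndex A ≤ Q.relIndex S :=
      Subgroup.relIndex_le_of_le_right h.AS (by rw [relIndex]; exact Subgroup.index_ne_zero_of_finite)
    have h4 : Nat.card (A ⊓ Q : Subgroup G) * Q.relIndex A = Nat.card A := by
      rw [← Subgroup.inf_relIndex_right Q A, inf_comm Q A]
      have := Subgroup.card_mul_index ((A ⊓ Q).subgroupOf A)
      rw [Nat.card_congr (Subgroup.subgroupOfEquivOfLe (H := A ⊓ Q) inf_le_left).toEquiv] at this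
      exact this
    have h5 : Nat.card Q * Q.relIndex S = Nat.card S := by
      have := Subgroup.card_mul_index (Q.subgroupOf S)
      rw [Nat.card_congr (Subgroup.subgroupOfEquivOfLe h.QS).toEquiv] at this
      exact this
    have h6 : Q.relIndex S ≤ q := by
      have h7 := h.cS
      rw [← h5, mul_comm] at h7
      exact Nat.le_of_mul_le_mul_right h7 Nat.card_pos
    rw [← h4, mul_comm]
    exact Nat.mul_le_mul_right _ (h3.trans h6)
  · have h3 : Nat.card (A ⊓ Q : Subgroup G) * (q * q) ≤ Nat.card A * q := h1.trans (Nat.mul_le_mul_left _ h2)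
    have h4 : q * (q * Nat.card (A ⊓ Q : Subgroup G)) ≤ q * Nat.card A := by
      calc q * (q * Nat.card (A ⊓ Q : Subgroup G)) = Nat.card (A ⊓ Q : Subgroup G) * (q * q) := by ring
        _ ≤ Nat.card A * q := h3
        _ = q * Nat.card A := by ring
    exact Nat.le_of_mul_le_mul_left h4 hq

/-- `A` is transitive on the coset `v Z`, `v ∈ V - Z` -/
theorem exists_conj [Finite G] {v : G} (hv : v ∈ V) (hvZ : v ∉ Z) {z : G} (hz : z ∈ Z) :
    ∃ a ∈ A, a * v * a⁻¹ * v⁻¹ = z := by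
  have hsq : ∀ x ∈ V, x * x = 1 := fun x hx => h.sq x (h.VW hx)
  have hVV : ∀ x ∈ V, ∀ y ∈ V, x * y = y * x := by
    intro x hx y hy
    exact Cfsg.Agent.Omega.NO3S.FullJ.comm_of_sq (V := V) hsq hx hy
  obtain ⟨f, hf⟩ := exists_hom_left (X := A) (V := Z) (n := v) (fun a ha z hz => h.SZ a (h.AS ha) z hz)
    (fun x hx y hy => hVV x (h.ZV hx) y (h.ZV hy)) (fun a ha => h.SV a (h.AS ha) v hv)
  have h1 : Nat.card f.ker ≤ Nat.card (A ⊓ Q : Subgroup G) := by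
    apply card_ker_le f
    intro a ha
    refine ⟨a.2, ?_⟩
    by_contra haQ
    rw [hf] at ha
    exact hvZ (h.fix a (h.AS a.2) haQ v hv (mul_inv_eq_iff_eq_mul.1 (mul_inv_eq_one.1 ha)))
  have h2 : q ≤ Nat.card f.range := by
    have h3 := card_eq_mul f
    rw [h.card_AQ] at h3
    have h4 : q * Nat.card (A ⊓ Q : Subgroup G) ≤ Nat.card f.range * Nat.card (A ⊓ Q : Subgroup G) := by
      rw [h3, mul_comm]
      exact Nat.mul_le_mul_left _ h1
    exact Nat.le_of_mul_le_mul_right h4 Nat.card_pos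
  have h3 : f.range ≤ Z := by
    rintro _ ⟨a, rfl⟩
    rw [hf]; exact h.SV a (h.AS a.2) v hv
  have h4 : f.range = Z := Subgroup.eq_of_le_of_card_ge h3 (by rw [h.cZ]; exact h2)
  obtain ⟨a, ha⟩ := (h4 ▸ hz : z ∈ f.range)
  exact ⟨a, a.2, by rw [← ha, hf]⟩

/-- the theorem, in the form `[n ^ g, A] ≤ Z` -/
theorem main [Finite G] {n : G} (hn : n ∈ W) (hnS : ∀ s ∈ S, s * n * s⁻¹ * n⁻¹ ∈ Z) {g₀ : G} (hg₀ : g₀ ∈ P)
    (hgZ : ¬ ∀ z ∈ Z, g₀ * z * g₀⁻¹ ∈ Z) : ∀ a ∈ A, a * (g₀ * n * g₀⁻¹) * a⁻¹ * (g₀ * n * g₀⁻¹)⁻¹ ∈ Z := by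
  classical
  set N : Set G := {x | ∃ g ∈ P, (¬ ∀ z ∈ Z, g * z * g⁻¹ ∈ Z) ∧ x = g * n * g⁻¹} with hN
  set F : Subgroup G := V ⊔ closure N with hF
  have hq : 0 < q := by have := h.q2; omega
  have hVF : V ≤ F := le_sup_left
  have hNF : ∀ x ∈ N, x ∈ F := fun x hx => le_sup_right (a := V) (subset_closure hx)
  have hNV : ∀ x ∈ N, ∃ g ∈ P, x = g * n * g⁻¹ := fun x ⟨g, hg, _, e⟩ => ⟨g, hg, e⟩
  -- the generators of `F`
  have hgen : F = closure ((V : Set G) ∪ N) := by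
    rw [hF, Subgroup.closure_union, Subgroup.closure_eq]
  -- every generator is a conjugate of an element of `W`
  have hconj : ∀ x ∈ (V : Set G) ∪ N, ∃ g ∈ P, ∃ w ∈ W, x = g * w * g⁻¹ := by
    rintro x (hx | hx)
    · exact ⟨1, one_mem _, x, h.VW hx, by group⟩
    · obtain ⟨g, hg, e⟩ := hNV x hx
      exact ⟨g, hg, n, hn, e⟩
  have hcc : ∀ x ∈ (V : Set G) ∪ N, ∀ y ∈ (V : Set G) ∪ N, x * y = y * x := by
    intro x hx y hy
    obtain ⟨g, hg, w, hw, rfl⟩ := hconj x hx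
    obtain ⟨k, hk, u, hu, rfl⟩ := hconj y hy
    have h1 := h.comm (k⁻¹ * g) (mul_mem (inv_mem hk) hg) w hw u hu
    calc g * w * g⁻¹ * (k * u * k⁻¹) = k * ((k⁻¹ * g) * w * (k⁻¹ * g)⁻¹ * u) * k⁻¹ := by group
      _ = k * (u * ((k⁻¹ * g) * w * (k⁻¹ * g)⁻¹)) * k⁻¹ := by rw [h1]
      _ = k * u * k⁻¹ * (g * w * g⁻¹) := by group
  have habF : ∀ x ∈ F, ∀ y ∈ F, x * y = y * x := by
    have h1 : F ≤ centralizer (F : Set G) := by
      have h2 : F ≤ centralizer ((V : Set G) ∪ N) := by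
        rw [hgen, closure_le]
        intro x hx
        exact mem_centralizer_iff.2 fun y hy => hcc y hy x hx
      have h3 : (V : Set G) ∪ N ⊆ centralizer (F : Set G) := by
        intro x hx
        exact mem_centralizer_iff.2 fun y hy => (mem_centralizer_iff.1 (h2 hy) x hx).symm
      conv_lhs => rw [hgen]
      exact (closure_le _).2 h3
    intro x hx y hy
    exact (mem_centralizer_iff.1 (h1 hx) y hy).symm
  have hsqF : ∀ x ∈ F, x * x = 1 := by
    intro x hx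
    rw [hgen] at hx
    refine closure_induction (p := fun x _ => x * x = 1) ?_ ?_ ?_ ?_ hx
    · intro x hx
      obtain ⟨g, hg, w, hw, rfl⟩ := hconj x hx
      calc g * w * g⁻¹ * (g * w * g⁻¹) = g * (w * w) * g⁻¹ := by group
        _ = 1 := by rw [h.sq w hw]; group
    · simp
    · intro x y hx hy hxx hyy
      have e := habF x (hgen ▸ hx) y (hgen ▸ hy)
      calc x * y * (x * y) = x * (y * x) * y := by group
        _ = x * (x * y) * y := by rw [e]
        _ = (x * x) * (y * y) := by group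
        _ = 1 := by rw [hxx, hyy, one_mul]
    · intro x _ hxx
      calc x⁻¹ * x⁻¹ = (x * x)⁻¹ := by group
        _ = 1 := by rw [hxx, inv_one]
  have hFQ : F ≤ Q := by
    rw [hgen, closure_le]
    intro x hx
    obtain ⟨g, hg, w, hw, rfl⟩ := hconj x hx
    exact h.nQ g hg w (h.WQ hw)
  have hSF : ∀ s ∈ S, ∀ x ∈ F, s * x * s⁻¹ ∈ F := by
    intro s hs x hx
    have h1 : F ≤ F.comap (MulAut.conj s).toMonoidHom := by
      conv_lhs => rw [hgen]
      rw [closure_le]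
      rintro x (hx | hx)
      · exact hVF (h.nV s (h.SP hs) x hx)
      · obtain ⟨g, hg, hgz, rfl⟩ := hx
        refine hNF _ ⟨s * g, mul_mem (h.SP hs) hg, ?_, ?_⟩
        · intro hc
          apply hgz
          intro z hz
          have h2 := hc z hz
          have h3 := h.SZ s⁻¹ (inv_mem hs) _ h2
          have e : g * z * g⁻¹ = s⁻¹ * (s * g * z * (s * g)⁻¹) * s := by group
          rw [e, h3, inv_mul_cancel_right]
          exact h2
        · change s * (g * n * g⁻¹) * s⁻¹ = _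
          group
    exact h1 hx
  -- `[F, Q] ≤ V`
  have hFV : ∀ b ∈ A ⊓ Q, ∀ x ∈ F, b * x * b⁻¹ * x⁻¹ ∈ V := by
    intro b hb x hx
    rw [hgen] at hx
    refine closure_induction (p := fun x _ => b * x * b⁻¹ * x⁻¹ ∈ V) ?_ ?_ ?_ ?_ hx
    · rintro x (hx | hx)
      · rw [h.QV b hb.2 x hx]
        have e : x * b * b⁻¹ * x⁻¹ = 1 := by group
        rw [e]; exact one_mem _
      · obtain ⟨g, hg, hgz, rfl⟩ := hx
        have h1 := h.nQ g⁻¹ (inv_mem hg) b hb.2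
        rw [inv_inv] at h1
        have h2 := h.nV g hg _ (h.ZV (hnS _ (h.QS h1)))
        have e : b * (g * n * g⁻¹) * b⁻¹ * (g * n * g⁻¹)⁻¹ =
          g * (g⁻¹ * b * g * n * (g⁻¹ * b * g)⁻¹ * n⁻¹) * g⁻¹ := by group
        rw [e]; exact h2
    · have e : b * 1 * b⁻¹ * 1⁻¹ = 1 := by group
      rw [e]; exact one_mem _
    · intro x y hx hy hxx hyy
      have e : b * (x * y) * b⁻¹ * (x * y)⁻¹ = (b * x * b⁻¹ * x⁻¹) * (x * (b * y * b⁻¹ * y⁻¹) * x⁻¹) := by group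
      have e2 : x * (b * y * b⁻¹ * y⁻¹) * x⁻¹ = b * y * b⁻¹ * y⁻¹ := by
        rw [habF x (hgen ▸ hx) _ (hVF hyy), mul_inv_cancel_right]
      rw [e, e2]
      exact mul_mem hxx hyy
    · intro x hx hxx
      have hxF : x ∈ F := hgen ▸ hx
      have h3 : b * x * b⁻¹ ∈ F := by
        have := mul_mem (hVF hxx) hxF
        rwa [inv_mul_cancel_right] at this
      have e2 : b * x⁻¹ * b⁻¹ * x⁻¹⁻¹ = (b * x * b⁻¹ * x⁻¹)⁻¹ := by
        have e1 := habF _ (inv_mem h3) x hxF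
        calc b * x⁻¹ * b⁻¹ * x⁻¹⁻¹ = (b * x * b⁻¹)⁻¹ * x := by group
          _ = x * (b * x * b⁻¹)⁻¹ := e1
          _ = (b * x * b⁻¹ * x⁻¹)⁻¹ := by group
      rw [e2]; exact inv_mem hxx
  have hcnt : Cnt A (A ⊓ Q) V F N q := by
    refine ⟨h.abA, inf_le_left, habF, hVF, fun a ha x hx => hSF a (h.AS ha) x hx,
      fun b hb v hv => h.QV b hb.2 v hv, hNF, le_rfl, ?_⟩
    rintro _ ⟨g, hg, hgz, rfl⟩
    refine ⟨Z.map (MulAut.conj g).toMonoidHom, ?_, ?_, ?_, ?_⟩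
    · rw [Subgroup.card_map_of_injective (MulAut.conj g).injective, h.cZ]
    · rintro _ ⟨z, hz, rfl⟩
      exact h.nV g hg z (h.ZV hz)
    · intro b hb
      have h1 := h.nQ g⁻¹ (inv_mem hg) b hb.2
      rw [inv_inv] at h1
      refine ⟨_, hnS _ (h.QS h1), ?_⟩
      change g * (g⁻¹ * b * g * n * (g⁻¹ * b * g)⁻¹ * n⁻¹) * g⁻¹ = _
      group
    · rintro _ ⟨z, hz, rfl⟩ hv1 Y hY
      change g * z * g⁻¹ ≠ 1 at hv1
      change ∀ a ∈ A, a * (g * z * g⁻¹) * a⁻¹ ∈ Y at hY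
      set v := g * z * g⁻¹ with hv
      have hvV : v ∈ V := h.nV g hg z (h.ZV hz)
      have hvZ : v ∉ Z := by
        intro hc
        refine hgz (h.ti g hg z hz ?_ hc)
        rintro rfl
        apply hv1
        rw [hv]; group
      have hvY : v ∈ Y := by
        have := hY 1 (one_mem _)
        rwa [one_mul, inv_one, mul_one] at this
      have hZY : Z ≤ Y := by
        intro z hz
        obtain ⟨a, ha, e⟩ := h.exists_conj hvV hvZ hz
        rw [← e]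
        exact mul_mem (hY a ha) (inv_mem hvY)
      rw [← h.cZ]
      exact two_mul_card_le hZY hvY hvZ
  have hcount := hcnt.count (Nat.card (A ⊓ Q : Subgroup G)) (A ⊓ Q) le_rfl le_rfl
  have hAF := h.hA F hVF hFQ hsqF hSF
  have hcA : A ⊓ centralizer (F : Set G) = (A ⊓ Q) ⊓ centralizer (F : Set G) := by
    apply le_antisymm
    · refine le_inf ?_ inf_le_right
      rw [← h.cent_V]
      exact inf_le_inf_left _ (centralizer_le hVF)
    · exact inf_le_inf_right _ inf_le_left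
  rw [hcA] at hAF
  set E : Subgroup G := F ⊓ centralizer (A : Set G) with hE
  -- `V C_F(A)` has order at least `q |C_F(A)|`
  have hVEF : V ⊔ E ≤ F := sup_le hVF inf_le_left
  have hVE : q * Nat.card E ≤ Nat.card (V ⊔ E : Subgroup G) := by
    have hn' : V ≤ normalizer (E : Set G) := by
      have h1 : V ≤ centralizer (E : Set G) := fun v hv =>
        mem_centralizer_iff.2 fun e he => habF e he.1 v (hVF hv)
      exact h1.trans (centralizer_le_normalizer _)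
    have h1 : Nat.card (V ⊔ E : Subgroup G) * Nat.card (V ⊓ E : Subgroup G) = Nat.card V * Nat.card E := by
      rw [← Cfsg.Agent.Lib.ProductSet.card_mul_card_inf V E, ← Subgroup.coe_mul_of_left_le_normalizer_right V E hn']
      rfl
    have h2 : Nat.card (V ⊓ E : Subgroup G) ≤ q := by
      rw [← h.cZ]
      exact Subgroup.card_le_of_le ((inf_le_inf_left V inf_le_right).trans h.inf_cent_le)
    rw [h.cV] at h1
    have h3 : q * (q * Nat.card E) ≤ q * Nat.card (V ⊔ E : Subgroup G) := by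
      calc q * (q * Nat.card E) = q * q * Nat.card E := by ring
        _ = Nat.card (V ⊔ E : Subgroup G) * Nat.card (V ⊓ E : Subgroup G) := h1.symm
        _ ≤ Nat.card (V ⊔ E : Subgroup G) * q := Nat.mul_le_mul_left _ h2
        _ = q * Nat.card (V ⊔ E : Subgroup G) := by ring
    exact Nat.le_of_mul_le_mul_left h3 hq
  have hVEB : V ⊔ E ≤ F ⊓ centralizer ((A ⊓ Q : Subgroup G) : Set G) := by
    refine sup_le (le_inf hVF fun v hv => ?_) (inf_le_inf_left _ (centralizer_le inf_le_left))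
    exact mem_centralizer_iff.2 fun b hb => h.QV b hb.2 v hv
  have hAB := h.card_AQ
  have hBpos : 0 < Nat.card (A ⊓ Q : Subgroup G) := Nat.card_pos
  have hBV := Subgroup.card_le_of_le hVEB
  rcases hcount with hc | hc
  · -- `A ∩ Q` centralises `F`
    have e1 : (A ⊓ Q) ⊓ centralizer (F : Set G) = A ⊓ Q :=
      inf_eq_left.2 fun x hx => mem_centralizer_iff.2 fun f hf => (hc x hx f hf).symm
    rw [e1, hAB] at hAF
    have h1 : Nat.card F ≤ Nat.card (V ⊔ E : Subgroup G) := by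
      refine le_trans ?_ hVE
      apply Nat.le_of_mul_le_mul_left _ hBpos
      calc Nat.card (A ⊓ Q : Subgroup G) * Nat.card F ≤ q * Nat.card (A ⊓ Q : Subgroup G) * Nat.card E := hAF
        _ = Nat.card (A ⊓ Q : Subgroup G) * (q * Nat.card E) := by ring
    have h2 : V ⊔ E = F := Subgroup.eq_of_le_of_card_ge hVEF h1
    let K : Subgroup G :=
      { carrier := {x | x ∈ F ∧ ∀ a ∈ A, a * x * a⁻¹ * x⁻¹ ∈ Z}
        one_mem' := ⟨one_mem _, fun a _ => by
          have e : a * 1 * a⁻¹ * 1⁻¹ = 1 := by group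
          rw [e]; exact one_mem _⟩
        mul_mem' := by
          rintro x y ⟨hx, hx'⟩ ⟨hy, hy'⟩
          refine ⟨mul_mem hx hy, fun a ha => ?_⟩
          have e : a * (x * y) * a⁻¹ * (x * y)⁻¹ = (a * x * a⁻¹ * x⁻¹) * (x * (a * y * a⁻¹ * y⁻¹) * x⁻¹) := by group
          have e2 : x * (a * y * a⁻¹ * y⁻¹) * x⁻¹ = a * y * a⁻¹ * y⁻¹ := by
            rw [habF x hx _ (hVF (h.ZV (hy' a ha))), mul_inv_cancel_right]
          rw [e, e2]
          exact mul_mem (hx' a ha) (hy' a ha)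
        inv_mem' := by
          rintro x ⟨hx, hx'⟩
          refine ⟨inv_mem hx, fun a ha => ?_⟩
          have h3 : a * x * a⁻¹ ∈ F := hSF a (h.AS ha) x hx
          have e1 := habF _ (inv_mem h3) x hx
          have e2 : a * x⁻¹ * a⁻¹ * x⁻¹⁻¹ = (a * x * a⁻¹ * x⁻¹)⁻¹ := by
            calc a * x⁻¹ * a⁻¹ * x⁻¹⁻¹ = (a * x * a⁻¹)⁻¹ * x := by group
              _ = x * (a * x * a⁻¹)⁻¹ := e1
              _ = (a * x * a⁻¹ * x⁻¹)⁻¹ := by group
          rw [e2]; exact inv_mem (hx' a ha) }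
    have hK : V ⊔ E ≤ K := by
      refine sup_le (fun v hv => ⟨hVF hv, fun a ha => h.SV a (h.AS ha) v hv⟩) fun e he => ⟨he.1, fun a ha => ?_⟩
      have := mem_centralizer_iff.1 he.2 a ha
      rw [this]
      have e1 : e * a * a⁻¹ * e⁻¹ = 1 := by group
      rw [e1]; exact one_mem _
    have h3 : g₀ * n * g₀⁻¹ ∈ K := hK (h2 ▸ hNF _ ⟨g₀, hg₀, hgZ, rfl⟩)
    exact h3.2
  · exfalso
    have h1 : 2 * (Nat.card (A ⊓ Q : Subgroup G) *
        Nat.card (F ⊓ centralizer ((A ⊓ Q : Subgroup G) : Set G) : Subgroup G)) ≤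
        Nat.card (A ⊓ Q : Subgroup G) *
        Nat.card (F ⊓ centralizer ((A ⊓ Q : Subgroup G) : Set G) : Subgroup G) := by
      calc _ ≤ _ := hc
        _ = Nat.card ((A ⊓ Q) ⊓ centralizer (F : Set G) : Subgroup G) * Nat.card F := by ring
        _ ≤ Nat.card A * Nat.card E := hAF
        _ = Nat.card (A ⊓ Q : Subgroup G) * (q * Nat.card E) := by rw [hAB]; ring
        _ ≤ _ := Nat.mul_le_mul_left _ (hVE.trans hBV)
    have h2 : 0 < Nat.card (A ⊓ Q : Subgroup G) *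
        Nat.card (F ⊓ centralizer ((A ⊓ Q : Subgroup G) : Set G) : Subgroup G) :=
      Nat.mul_pos Nat.card_pos Nat.card_pos
    omega

/-- some conjugate of `W` at another point contains `n` -/
theorem conj_mem [Finite G] {n : G} (hn : n ∈ W) (hnS : ∀ s ∈ S, s * n * s⁻¹ * n⁻¹ ∈ Z) {g : G} (hg : g ∈ P)
    (hgZ : ¬ ∀ z ∈ Z, g * z * g⁻¹ ∈ Z) {a : G} (ha : a ∈ A) :
    (g⁻¹ * a * g) * n * (g⁻¹ * a * g)⁻¹ ∈ W := by
  have h1 := h.nV g⁻¹ (inv_mem hg) _ (h.ZV (h.main hn hnS hg hgZ a ha))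
  have e : (g⁻¹ * a * g) * n * (g⁻¹ * a * g)⁻¹ =
      g⁻¹ * (a * (g * n * g⁻¹) * a⁻¹ * (g * n * g⁻¹)⁻¹) * g⁻¹⁻¹ * n := by group
  rw [e]
  exact mul_mem (h.VW h1) hn

/-- **THEOREM FULL**: every `n ∈ W` with `[n, S] ≤ Z` lies in all the conjugates of `W` under `P`. -/
theorem mem_all [Finite G] (hW : ∀ c ∈ P, (∀ z ∈ Z, c * z * c⁻¹ ∈ Z) → ∀ w ∈ W, c * w * c⁻¹ ∈ W)
    {n : G} (hn : n ∈ W) (hnS : ∀ s ∈ S, s * n * s⁻¹ * n⁻¹ ∈ Z) {k : G} (hk : k ∈ P) : k * n * k⁻¹ ∈ W := by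
  by_cases hkZ : ∀ z ∈ Z, k * z * k⁻¹ ∈ Z
  · exact hW k hk hkZ n hn
  have hsq : ∀ x ∈ V, x * x = 1 := fun x hx => h.sq x (h.VW hx)
  have hVV : ∀ x ∈ V, ∀ y ∈ V, x * y = y * x := fun x hx y hy => comm_of_sq (V := V) hsq hx hy
  have hq : 0 < q := by have := h.q2; omega
  -- a mover `m = g⁻¹ a g`
  obtain ⟨a₀, ha₀, ha₀Q⟩ := SetLike.not_le_iff_exists.1 h.AQ
  obtain ⟨z₀, hz₀, hz₀1⟩ : ∃ z ∈ Z, z ≠ 1 := by
    by_contra hc
    push Not at hc
    have h1 : Z ≤ ⊥ := fun z hz => (hc z hz)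
    have h2 := Subgroup.card_le_of_le h1
    rw [h.cZ, Subgroup.card_bot] at h2
    have := h.q2
    omega
  set v₀ := k * z₀ * k⁻¹ with hv₀
  have hv₀V : v₀ ∈ V := h.nV k hk z₀ (h.ZV hz₀)
  have hv₀Z : v₀ ∉ Z := fun hc => hkZ (h.ti k hk z₀ hz₀ hz₀1 hc)
  set m := k⁻¹ * a₀ * k with hm
  have hmP : m ∈ P := mul_mem (mul_mem (inv_mem hk) (h.SP (h.AS ha₀))) hk
  have hmW := h.conj_mem hn hnS hk hkZ ha₀
  -- `m` moves `Z`: `a₀` moves the point `k Z k⁻¹`
  have hmZ : ¬ ∀ z ∈ Z, m * z * m⁻¹ ∈ Z := by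
    intro hc
    have h1 := hc z₀ hz₀
    -- `c = a₀ v₀ a₀⁻¹ v₀⁻¹ ∈ Z`, nontrivial, and in `k Z k⁻¹`
    have h2 : a₀ * v₀ * a₀⁻¹ * v₀⁻¹ ∈ Z := h.SV a₀ (h.AS ha₀) v₀ hv₀V
    have h3 : k⁻¹ * (a₀ * v₀ * a₀⁻¹ * v₀⁻¹) * k ∈ Z := by
      have e : k⁻¹ * (a₀ * v₀ * a₀⁻¹ * v₀⁻¹) * k = (m * z₀ * m⁻¹) * z₀⁻¹ := by
        rw [hv₀, hm]; group
      rw [e]
      exact mul_mem h1 (inv_mem hz₀)
    have h4 : a₀ * v₀ * a₀⁻¹ * v₀⁻¹ ≠ 1 := fun e =>
      hv₀Z (h.fix a₀ (h.AS ha₀) ha₀Q v₀ hv₀V (mul_inv_eq_iff_eq_mul.1 (mul_inv_eq_one.1 e)))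
    set c := a₀ * v₀ * a₀⁻¹ * v₀⁻¹ with hcdef
    refine hkZ (h.ti k hk (k⁻¹ * c * k) h3 ?_ ?_)
    · intro e
      apply h4
      calc c = k * (k⁻¹ * c * k) * k⁻¹ := by group
        _ = 1 := by rw [e]; group
    · have e : k * (k⁻¹ * c * k) * k⁻¹ = c := by group
      rw [e]; exact h2
  -- the points `Z ^ (k⁻¹)`, `Z ^ (m⁻¹)`
  have hinv : ∀ x ∈ P, (∀ z ∈ Z, x * z * x⁻¹ ∈ Z) → ∀ z ∈ Z, x⁻¹ * z * x ∈ Z := by
    intro x hx hxZ z hz
    have h1 : Z.map (MulAut.conj x).toMonoidHom ≤ Z := by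
      rintro _ ⟨y, hy, rfl⟩
      exact hxZ y hy
    have h2 : Z.map (MulAut.conj x).toMonoidHom = Z :=
      Subgroup.eq_of_le_of_card_ge h1
        (by rw [Subgroup.card_map_of_injective (MulAut.conj x).injective])
    have h3 : z ∈ Z.map (MulAut.conj x).toMonoidHom := by rw [h2]; exact hz
    obtain ⟨y, hy, hyz⟩ := h3
    change x * y * x⁻¹ = z at hyz
    rw [← hyz]
    have e : x⁻¹ * (x * y * x⁻¹) * x = y := by group
    rw [e]; exact hy
  have hkZ' : ¬ ∀ z ∈ Z, k⁻¹ * z * k ∈ Z := by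
    intro hc
    refine hkZ fun z hz => ?_
    have := hinv k⁻¹ (inv_mem hk) (by simpa using hc) z hz
    simpa using this
  have hmZ' : ¬ ∀ z ∈ Z, m⁻¹ * z * m ∈ Z := by
    intro hc
    refine hmZ fun z hz => ?_
    have := hinv m⁻¹ (inv_mem hmP) (by simpa using hc) z hz
    simpa using this
  have hnot : ∀ x ∈ P, (¬ ∀ z ∈ Z, x⁻¹ * z * x ∈ Z) → ∀ z ∈ Z, z ≠ 1 → x⁻¹ * z * x ∉ Z := by
    intro x hx hxZ z hz hz1 hc
    refine hxZ fun y hy => ?_
    have := h.ti x⁻¹ (inv_mem hx) z hz hz1 (by rwa [inv_inv]) y hy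
    rwa [inv_inv] at this
  set t : Subgroup G := Z.map (MulAut.conj m⁻¹).toMonoidHom with ht
  have htV : t ≤ V := by
    rintro _ ⟨z, hz, rfl⟩
    exact h.nV m⁻¹ (inv_mem hmP) z (h.ZV hz)
  have htc : Nat.card t = q := by rw [ht, Subgroup.card_map_of_injective (MulAut.conj m⁻¹).injective, h.cZ]
  have hsup : Z ⊔ t = V := by
    have hn' : Z ≤ normalizer (t : Set G) := by
      have h1 : Z ≤ centralizer (t : Set G) := fun z hz =>
        mem_centralizer_iff.2 fun x hx => hVV x (htV hx) z (h.ZV hz)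
      exact h1.trans (centralizer_le_normalizer _)
    have h1 : Nat.card (Z ⊔ t : Subgroup G) * Nat.card (Z ⊓ t : Subgroup G) = Nat.card Z * Nat.card t := by
      rw [← Cfsg.Agent.Lib.ProductSet.card_mul_card_inf Z t, ← Subgroup.coe_mul_of_left_le_normalizer_right Z t hn']
      rfl
    have h2 : Z ⊓ t = ⊥ := by
      rw [eq_bot_iff]
      rintro x ⟨hx, y, hy, hyx⟩
      change m⁻¹ * y * m⁻¹⁻¹ = x at hyx
      rw [inv_inv] at hyx
      rw [mem_bot]
      by_contra hx1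
      refine hnot m hmP hmZ' y hy ?_ (by rw [hyx]; exact hx)
      rintro rfl
      apply hx1
      rw [← hyx]; group
    rw [h2, Subgroup.card_bot, mul_one, h.cZ, htc] at h1
    refine Subgroup.eq_of_le_of_card_ge (sup_le h.ZV htV) ?_
    rw [h.cV, h1]
  -- `v = k⁻¹ z₀ k`
  set v := k⁻¹ * z₀ * k with hv
  have hvV : v ∈ V := by
    have := h.nV k⁻¹ (inv_mem hk) z₀ (h.ZV hz₀)
    rwa [inv_inv] at this
  have hvZ : v ∉ Z := hnot k hk hkZ' z₀ hz₀ hz₀1
  obtain ⟨z₁, hz₁, w, hw, hzw⟩ : ∃ z₁ ∈ Z, ∃ w ∈ t, z₁ * w = v := by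
    have hn' : Z ≤ normalizer (t : Set G) := by
      have h1 : Z ≤ centralizer (t : Set G) := fun z hz =>
        mem_centralizer_iff.2 fun x hx => hVV x (htV hx) z (h.ZV hz)
      exact h1.trans (centralizer_le_normalizer _)
    have h1 : v ∈ ((Z ⊔ t : Subgroup G) : Set G) := by rw [hsup]; exact hvV
    rw [Subgroup.coe_mul_of_left_le_normalizer_right Z t hn'] at h1
    exact h1
  obtain ⟨z₂, hz₂, hz₂w⟩ := hw
  change m⁻¹ * z₂ * m⁻¹⁻¹ = w at hz₂w
  rw [inv_inv] at hz₂w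
  obtain ⟨a, ha, hav⟩ := h.exists_conj hvV hvZ (inv_mem hz₁)
  have haw : a * v * a⁻¹ = w := by
    have : a * v * a⁻¹ = z₁⁻¹ * v := mul_inv_eq_iff_eq_mul.1 hav
    rw [this, ← hzw]; group
  -- `c = m a k⁻¹` normalises `Z`
  set c := m * a * k⁻¹ with hc
  have hcP : c ∈ P := mul_mem (mul_mem hmP (h.SP (h.AS ha))) (inv_mem hk)
  have hcz : c * z₀ * c⁻¹ = z₂ := by
    have e : c * z₀ * c⁻¹ = m * (a * v * a⁻¹) * m⁻¹ := by rw [hc, hv]; group
    rw [e, haw, ← hz₂w]; group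
  have hcZ : ∀ z ∈ Z, c * z * c⁻¹ ∈ Z := h.ti c hcP z₀ hz₀ hz₀1 (by rw [hcz]; exact hz₂)
  have hcZ' : ∀ z ∈ Z, c⁻¹ * z * c⁻¹⁻¹ ∈ Z := by
    intro z hz
    rw [inv_inv]
    exact hinv c hcP hcZ z hz
  have h5 : m * (a * n * a⁻¹) * m⁻¹ ∈ W := by
    have e : m * (a * n * a⁻¹) * m⁻¹ = (m * (a * n * a⁻¹ * n⁻¹) * m⁻¹) * (m * n * m⁻¹) := by group
    rw [e]
    exact mul_mem (h.VW (h.nV m hmP _ (h.ZV (hnS a (h.AS ha))))) hmW
  have h6 := hW c⁻¹ (inv_mem hcP) hcZ' _ h5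
  have e : c⁻¹ * (m * (a * n * a⁻¹) * m⁻¹) * c⁻¹⁻¹ = k * n * k⁻¹ := by rw [hc]; group
  rw [e] at h6
  exact h6

end Hyp

end Cfsg.Agent.Omega.NO3S.FullJ
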